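import Mathlib

/-!
# Sims' theorem on suborbits of length 3 (S3385, S3685): the chain library

Blueprint: `tools/blueprints/S3685.md`.  `X^g := g X g⁻¹ = MulAut.conj g • X`.
-/

set_option autoImplicit false

namespace Cfsg.Agent.Lib.H5.Sims

open scoped Pointwise

variable {G : Type*} [Group G]

theorem mem_conj_smul {g x : G} {X : Subgroup G} : x ∈ MulAut.conj g • X ↔ g⁻¹ * x * g ∈ X := by
  rw [Subgroup.mem_pointwise_smul_iff_inv_smul_mem]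
  simp [MulAut.smul_def, MulAut.conj_inv_apply]

theorem conj_mem_conj_smul {g x : G} {X : Subgroup G} (hx : x ∈ X) : g * x * g⁻¹ ∈ MulAut.conj g • X := by
  rw [mem_conj_smul]
  simpa [mul_assoc] using hx

/-- `Ω₁ Z(H)`: the elements of order at most 2 in the centre of `H`, as a subgroup of the ambient group. -/
def zOf (H : Subgroup G) : Subgroup G where
  carrier := {x | x ∈ H ∧ x ^ 2 = 1 ∧ ∀ y ∈ H, y * x = x * y}
  one_mem' := ⟨H.one_mem, one_pow 2, fun y _ => by simp⟩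
  mul_mem' := by
    rintro a b ⟨ha, ha2, hac⟩ ⟨hb, hb2, hbc⟩
    refine ⟨H.mul_mem ha hb, ?_, fun y hy => ?_⟩
    · have hab : b * a = a * b := hac b hb
      calc (a * b) ^ 2 = a * (b * a) * b := by simp [pow_two, mul_assoc]
        _ = a ^ 2 * b ^ 2 := by rw [hab]; simp [pow_two, mul_assoc]
        _ = 1 := by rw [ha2, hb2, one_mul]
    · rw [← mul_assoc, hac y hy, mul_assoc, hbc y hy, mul_assoc]
  inv_mem' := by
    rintro a ⟨ha, ha2, hac⟩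
    refine ⟨H.inv_mem ha, ?_, fun y hy => ?_⟩
    · rw [inv_pow, ha2, inv_one]
    · have := hac y hy
      calc y * a⁻¹ = a⁻¹ * (a * y) * a⁻¹ := by simp [mul_assoc]
        _ = a⁻¹ * (y * a) * a⁻¹ := by rw [this]
        _ = a⁻¹ * y := by simp [mul_assoc]

theorem mem_zOf {H : Subgroup G} {x : G} :
    x ∈ zOf H ↔ x ∈ H ∧ x ^ 2 = 1 ∧ ∀ y ∈ H, y * x = x * y := Iff.rfl

theorem zOf_le (H : Subgroup G) : zOf H ≤ H := fun _ hx => hx.1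

theorem zOf_conj_smul (g : G) (H : Subgroup G) : zOf (MulAut.conj g • H) = MulAut.conj g • zOf H := by
  ext x
  rw [mem_conj_smul, mem_zOf, mem_zOf, mem_conj_smul]
  constructor
  · rintro ⟨h1, h2, h3⟩
    refine ⟨h1, ?_, fun y hy => ?_⟩
    · calc (g⁻¹ * x * g) ^ 2 = g⁻¹ * x ^ 2 * g := by simp [pow_two, mul_assoc]
        _ = 1 := by rw [h2]; simp
    · have := h3 (g * y * g⁻¹) (conj_mem_conj_smul hy)
      calc y * (g⁻¹ * x * g) = g⁻¹ * ((g * y * g⁻¹) * x) * g := by simp [mul_assoc]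
        _ = g⁻¹ * (x * (g * y * g⁻¹)) * g := by rw [this]
        _ = g⁻¹ * x * g * y := by simp [mul_assoc]
  · rintro ⟨h1, h2, h3⟩
    refine ⟨h1, ?_, fun y hy => ?_⟩
    · have : x = g * (g⁻¹ * x * g) * g⁻¹ := by simp [mul_assoc]
      rw [this]
      calc (g * (g⁻¹ * x * g) * g⁻¹) ^ 2 = g * (g⁻¹ * x * g) ^ 2 * g⁻¹ := by simp [pow_two, mul_assoc]
        _ = 1 := by rw [h2]; simp
    · have := h3 (g⁻¹ * y * g) (mem_conj_smul.1 hy)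
      calc y * x = g * ((g⁻¹ * y * g) * (g⁻¹ * x * g)) * g⁻¹ := by simp [mul_assoc]
        _ = g * ((g⁻¹ * x * g) * (g⁻¹ * y * g)) * g⁻¹ := by rw [this]
        _ = x * y := by simp [mul_assoc]

/-- the subgroups `A` and `B` commute elementwise -/
def Comm (A B : Subgroup G) : Prop := ∀ a ∈ A, ∀ b ∈ B, a * b = b * a

/-- the abstract setting: `(A1)` and `(A2)` of the blueprint -/
structure Setup (G : Type*) [Group G] where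
  P : Subgroup G
  h : G
  prim : ∀ X : Subgroup G, X ≤ P → X ≠ ⊥ → P ≤ Subgroup.normalizer (X : Set G) →
    Subgroup.normalizer (X : Set G) ≤ P
  idx : Nat.card P = 3 * Nat.card ↥(P ⊓ MulAut.conj h • P)

namespace Setup

variable (S : Setup G)

/-- `P_j = P^(h^j)` -/
def Pj (j : ℤ) : Subgroup G := MulAut.conj (S.h ^ j) • S.P
/-- `T_j = P_j ∩ P_(j+1)` -/
def Tj (j : ℤ) : Subgroup G := S.Pj j ⊓ S.Pj (j + 1)
/-- `Q_j = T_(j-1) ∩ T_j` (`= O_2(P_j)` for a bent chain) -/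
def Qj (j : ℤ) : Subgroup G := S.Tj (j - 1) ⊓ S.Tj j
/-- `Z_j = Ω₁ Z(T_j)` -/
def Zj (j : ℤ) : Subgroup G := zOf (S.Tj j)
/-- `Y_j = Ω₁ Z(P_j)` -/
def Yj (j : ℤ) : Subgroup G := zOf (S.Pj j)
/-- `V_j`: the normal closure of `Z_j` in `P_j` -/
def Vj (j : ℤ) : Subgroup G := ⨆ g : S.Pj j, MulAut.conj (g : G) • S.Zj j
/-- `E[i, i+n] = P_i ∩ ... ∩ P_(i+n)` -/
def seg (i : ℤ) : ℕ → Subgroup G
  | 0 => S.Pj i
  | n + 1 => seg i n ⊓ S.Pj (i + (n + 1 : ℕ))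

/-- unfolding lemmas for `seg`, stated here so that the equation lemmas of `seg` are generated in this
module (and not once per importing module, which the grader reports as a collision) -/
theorem seg_unfold_zero (i : ℤ) : S.seg i 0 = S.Pj i := by simp only [seg]

theorem seg_unfold_succ (i : ℤ) (n : ℕ) :
    S.seg i (n + 1) = S.seg i n ⊓ S.Pj (i + (n + 1 : ℕ)) := by simp only [seg]

theorem Pj_zero : S.Pj 0 = S.P := by simp [Pj]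

theorem Pj_one : S.Pj 1 = MulAut.conj S.h • S.P := by simp [Pj]

theorem conj_Pj (i j : ℤ) : MulAut.conj (S.h ^ i) • S.Pj j = S.Pj (i + j) := by
  simp only [Pj, smul_smul, ← map_mul, ← zpow_add]

theorem conj_Tj (i j : ℤ) : MulAut.conj (S.h ^ i) • S.Tj j = S.Tj (i + j) := by
  simp only [Tj, Subgroup.smul_inf, conj_Pj, add_assoc]

theorem conj_Qj (i j : ℤ) : MulAut.conj (S.h ^ i) • S.Qj j = S.Qj (i + j) := by
  simp only [Qj, Subgroup.smul_inf, conj_Tj, add_sub_assoc]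

theorem conj_Zj (i j : ℤ) : MulAut.conj (S.h ^ i) • S.Zj j = S.Zj (i + j) := by
  simp only [Zj, ← zOf_conj_smul, conj_Tj]

theorem conj_Yj (i j : ℤ) : MulAut.conj (S.h ^ i) • S.Yj j = S.Yj (i + j) := by
  simp only [Yj, ← zOf_conj_smul, conj_Pj]

theorem Tj_le_left (j : ℤ) : S.Tj j ≤ S.Pj j := inf_le_left
theorem Tj_le_right (j : ℤ) : S.Tj j ≤ S.Pj (j + 1) := inf_le_right
theorem Tj_pred_le (j : ℤ) : S.Tj (j - 1) ≤ S.Pj j := by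
  have := S.Tj_le_right (j - 1); rwa [sub_add_cancel] at this
theorem Qj_le_left (j : ℤ) : S.Qj j ≤ S.Tj (j - 1) := inf_le_left
theorem Qj_le_right (j : ℤ) : S.Qj j ≤ S.Tj j := inf_le_right
theorem Qj_le (j : ℤ) : S.Qj j ≤ S.Pj j := (S.Qj_le_right j).trans (S.Tj_le_left j)
theorem Zj_le (j : ℤ) : S.Zj j ≤ S.Tj j := zOf_le _
theorem Yj_le (j : ℤ) : S.Yj j ≤ S.Pj j := zOf_le _

theorem card_conj_smul [Finite G] (g : G) (X : Subgroup G) : Nat.card ↥(MulAut.conj g • X) = Nat.card X := by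
  exact Nat.card_congr (Subgroup.equivSMul (MulAut.conj g) X).symm.toEquiv

theorem card_Pj [Finite G] (j : ℤ) : Nat.card (S.Pj j) = Nat.card S.P := card_conj_smul _ _

theorem card_Tj [Finite G] (j : ℤ) : Nat.card (S.Tj j) = Nat.card (S.Tj 0) := by
  have := S.conj_Tj j 0
  rw [add_zero] at this
  rw [← this]; exact card_conj_smul _ _

theorem card_Pj_eq [Finite G] (j : ℤ) : Nat.card (S.Pj j) = 3 * Nat.card (S.Tj 0) := by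
  rw [card_Pj, S.idx, Tj, Pj_zero, zero_add, Pj_one]

/-- `(A1b)`: two distinct conjugates of `P` have no common nontrivial normal subgroup -/
theorem no_common_normal [Finite G] (g g' : G) (X : Subgroup G) (hX : X ≤ MulAut.conj g • S.P)
    (hn : MulAut.conj g • S.P ≤ Subgroup.normalizer (X : Set G))
    (hn' : MulAut.conj g' • S.P ≤ Subgroup.normalizer (X : Set G))
    (hne : MulAut.conj g • S.P ≠ MulAut.conj g' • S.P) : X = ⊥ := by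
  by_contra hX0
  -- transport to `P`
  set X' : Subgroup G := MulAut.conj g⁻¹ • X with hX'
  have hmemX' : ∀ x, x ∈ X' ↔ g * x * g⁻¹ ∈ X := by
    intro x; rw [hX', mem_conj_smul]; simp
  have hX'P : X' ≤ S.P := by
    intro x hx
    have := hX ((hmemX' x).1 hx)
    rw [mem_conj_smul] at this
    simpa [mul_assoc] using this
  have hX'0 : X' ≠ ⊥ := by
    intro h0
    apply hX0
    rw [eq_bot_iff]
    intro x hx
    have : g⁻¹ * x * g ∈ X' := by rw [hmemX']; simpa [mul_assoc] using hx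
    rw [h0, Subgroup.mem_bot] at this
    rw [Subgroup.mem_bot]
    have h2 : x = g * (g⁻¹ * x * g) * g⁻¹ := by simp [mul_assoc]
    rw [h2, this]; simp
  have hnorm : ∀ k : G, k ∈ Subgroup.normalizer (X : Set G) → g⁻¹ * k * g ∈ Subgroup.normalizer (X' : Set G) := by
    intro k hk
    rw [Subgroup.mem_normalizer_iff] at hk ⊢
    intro x
    rw [hmemX', hmemX']
    have := hk (g * x * g⁻¹)
    rw [this]
    have e : k * (g * x * g⁻¹) * k⁻¹ = g * (g⁻¹ * k * g * x * (g⁻¹ * k * g)⁻¹) * g⁻¹ := by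
      simp [mul_assoc]
    rw [e]
  have hPn : S.P ≤ Subgroup.normalizer (X' : Set G) := by
    intro p hp
    have := hnorm (g * p * g⁻¹) (hn (conj_mem_conj_smul hp))
    simpa [mul_assoc] using this
  have hle := S.prim X' hX'P hX'0 hPn
  -- the other conjugate lies in `P^g`
  have hsub : MulAut.conj g' • S.P ≤ MulAut.conj g • S.P := by
    intro k hk
    have h1 := hle (hnorm k (hn' hk))
    rw [mem_conj_smul]; exact h1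
  apply hne
  symm
  apply Subgroup.eq_of_le_of_card_ge hsub
  rw [card_conj_smul, card_conj_smul]

theorem no_common_normal_Pj [Finite G] (i j : ℤ) (X : Subgroup G) (hX : X ≤ S.Pj i)
    (hn : S.Pj i ≤ Subgroup.normalizer (X : Set G)) (hn' : S.Pj j ≤ Subgroup.normalizer (X : Set G))
    (hne : S.Pj i ≠ S.Pj j) : X = ⊥ :=
  S.no_common_normal _ _ X hX hn hn' hne

/-! ## Interfaces between the pieces -/

/-- `X` is a Sylow 2-subgroup of `P_j` (when `T_0` is a 2-group) -/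
def IsSyl (j : ℤ) (X : Subgroup G) : Prop := X ≤ S.Pj j ∧ Nat.card X = Nat.card (S.Tj 0)

theorem isSyl_Tj [Finite G] (j : ℤ) : S.IsSyl j (S.Tj j) := ⟨S.Tj_le_left j, S.card_Tj j⟩

theorem isSyl_Tj_succ [Finite G] (j : ℤ) : S.IsSyl (j + 1) (S.Tj j) := ⟨S.Tj_le_right j, S.card_Tj j⟩

theorem isSyl_Tj_pred [Finite G] (j : ℤ) : S.IsSyl j (S.Tj (j - 1)) := ⟨S.Tj_pred_le j, S.card_Tj _⟩

/-- `T ≠ 1` is a 2-group and the chain is bent: sections 1 and (2c) -/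
structure Bent : Prop where
  two : IsPGroup 2 ↥(S.Tj 0)
  ne_bot : S.Tj 0 ≠ ⊥
  bent : S.Tj (-1) ≠ S.Tj 0

/-- section 2 of the blueprint: `P_j / Q_j = S_3` -/
structure Loc : Prop where
  bent : ∀ j : ℤ, S.Tj (j - 1) ≠ S.Tj j
  P_ne : ∀ j : ℤ, S.Pj j ≠ S.Pj (j + 1)
  P_ne2 : ∀ j : ℤ, S.Pj (j - 1) ≠ S.Pj (j + 1)
  cardQ : ∀ j : ℤ, Nat.card (S.Tj 0) = 2 * Nat.card (S.Qj j)
  Q_norm : ∀ j : ℤ, S.Pj j ≤ Subgroup.normalizer (S.Qj j : Set G)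
  syl_inf : ∀ (j : ℤ) (X X' : Subgroup G), S.IsSyl j X → S.IsSyl j X' → X ≠ X' → X ⊓ X' = S.Qj j
  syl_sup : ∀ (j : ℤ) (X X' : Subgroup G), S.IsSyl j X → S.IsSyl j X' → X ≠ X' → X ⊔ X' = S.Pj j
  syl_conj : ∀ (j : ℤ) (X X' : Subgroup G), S.IsSyl j X → S.IsSyl j X' →
    ∃ x ∈ S.Pj j, MulAut.conj x • X = X'
  syl_selfnorm : ∀ (j : ℤ) (X : Subgroup G), S.IsSyl j X → ∀ x ∈ S.Pj j, MulAut.conj x • X = X → x ∈ X
  exists_three : ∀ j : ℤ, ∃ t ∈ S.Pj j, orderOf t = 3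
  sup_three : ∀ (j : ℤ) (X : Subgroup G), S.IsSyl j X → ∀ t ∈ S.Pj j, orderOf t = 3 →
    X ⊔ Subgroup.zpowers t = S.Pj j
  three_mem : ∀ (j : ℤ) (N : Subgroup G), N ≤ S.Pj j → S.Pj j ≤ Subgroup.normalizer (N : Set G) →
    ¬ N ≤ S.Qj j → ∀ t ∈ S.Pj j, orderOf t = 3 → t ∈ N
  two_le : ∀ (j : ℤ) (N : Subgroup G), N ≤ S.Pj j → S.Pj j ≤ Subgroup.normalizer (N : Set G) →
    IsPGroup 2 ↥N → N ≤ S.Qj j
  Q_ne : ∀ j : ℤ, S.Qj j ≠ ⊥ → S.Qj j ≠ S.Qj (j + 1)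

/-- section 4 of the blueprint (`|T| ≥ 8`) -/
structure Con : Prop where
  cQ : ∀ j : ℤ, ∀ x ∈ S.Pj j, (∀ q ∈ S.Qj j, x * q = q * x) → x ∈ S.Qj j
  Z_le_Q : ∀ (j : ℤ) (X : Subgroup G), S.IsSyl j X → zOf X ≤ S.Qj j
  Z_comm_Q : ∀ (j : ℤ) (X : Subgroup G), S.IsSyl j X → Comm (zOf X) (S.Qj j)
  Z_ne_bot : ∀ j : ℤ, S.Zj j ≠ ⊥
  V_le_Q : ∀ j : ℤ, S.Vj j ≤ S.Qj j
  V_comm_Q : ∀ j : ℤ, Comm (S.Vj j) (S.Qj j)
  V_sq : ∀ j : ℤ, ∀ v ∈ S.Vj j, v ^ 2 = 1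
  V_norm : ∀ j : ℤ, S.Pj j ≤ Subgroup.normalizer (S.Vj j : Set G)
  Z_le_V : ∀ (j : ℤ) (X : Subgroup G), S.IsSyl j X → zOf X ≤ S.Vj j
  Y_le_Z : ∀ (j : ℤ) (X : Subgroup G), S.IsSyl j X → S.Yj j ≤ zOf X
  act : ∀ (j : ℤ) (X : Subgroup G), S.IsSyl j X → ¬ S.Pj j ≤ Subgroup.normalizer (zOf X : Set G)
  cV : ∀ j : ℤ, ∀ x ∈ S.Pj j, (∀ v ∈ S.Vj j, x * v = v * x) → x ∈ S.Qj j
  key : ∀ (j : ℤ) (X X' : Subgroup G), S.IsSyl j X → S.IsSyl j X' → X ≠ X' →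
    ∀ s ∈ X, s ∉ S.Qj j → ∃ z ∈ zOf X', s * z ≠ z * s
  Y_inf : ∀ i j : ℤ, S.Pj i ≠ S.Pj j → S.Yj i ⊓ S.Yj j = ⊥

/-- section 5 of the blueprint: the `F_2 S_3`-module `V_j` -/
structure Mod : Prop where
  comm_le : ∀ (j : ℤ) (X : Subgroup G), S.IsSyl j X → ⁅S.Vj j, X⁆ ≤ zOf X
  Z_eq : ∀ (j : ℤ) (X : Subgroup G), S.IsSyl j X → zOf X = S.Yj j ⊔ ⁅S.Vj j, X⁆
  Y_disj : ∀ (j : ℤ) (X : Subgroup G), S.IsSyl j X → S.Yj j ⊓ ⁅S.Vj j, X⁆ = ⊥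
  card_comm : ∀ (j : ℤ) (X : Subgroup G), S.IsSyl j X →
    Nat.card ↥⁅S.Vj j, X⁆ = Nat.card ↥⁅S.Vj 0, S.Tj 0⁆
  Z_inf : ∀ (j : ℤ) (X X' : Subgroup G), S.IsSyl j X → S.IsSyl j X' → X ≠ X' → zOf X ⊓ zOf X' = S.Yj j
  Z_sup : ∀ (j : ℤ) (X X' : Subgroup G), S.IsSyl j X → S.IsSyl j X' → X ≠ X' → zOf X ⊔ zOf X' = S.Vj j
  comm_eq : ∀ (j : ℤ) (X X' : Subgroup G), S.IsSyl j X → S.IsSyl j X' → X ≠ X' →
    ∀ s ∈ X, s ∉ S.Qj j → ∀ x ∈ ⁅S.Vj j, X⁆, ∃ z ∈ zOf X', x = z * s * z⁻¹ * s⁻¹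
  card_Y_le : Nat.card (S.Yj 0) ≤ Nat.card ↥⁅S.Vj 0, S.Tj 0⁆
  card_V : ∀ j : ℤ, Nat.card (S.Vj j) = Nat.card (S.Yj 0) * Nat.card ↥⁅S.Vj 0, S.Tj 0⁆ ^ 2
  cV_three : ∀ j : ℤ, ∀ t ∈ S.Pj j, orderOf t = 3 → ∀ v ∈ S.Vj j, t * v = v * t → v ∈ S.Yj j
  W_card : ∀ j : ℤ, ∀ t ∈ S.Pj j, orderOf t = 3 →
    Nat.card ↥⁅S.Vj j, Subgroup.zpowers t⁆ = Nat.card ↥⁅S.Vj 0, S.Tj 0⁆ ^ 2
  W_sup : ∀ j : ℤ, ∀ t ∈ S.Pj j, orderOf t = 3 → S.Yj j ⊔ ⁅S.Vj j, Subgroup.zpowers t⁆ = S.Vj j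
  W_disj : ∀ j : ℤ, ∀ t ∈ S.Pj j, orderOf t = 3 → S.Yj j ⊓ ⁅S.Vj j, Subgroup.zpowers t⁆ = ⊥
  W_eq : ∀ j : ℤ, ∀ t ∈ S.Pj j, orderOf t = 3 → ∀ t' ∈ S.Pj j, orderOf t' = 3 →
    ⁅S.Vj j, Subgroup.zpowers t⁆ = ⁅S.Vj j, Subgroup.zpowers t'⁆
  W_norm : ∀ j : ℤ, ∀ t ∈ S.Pj j, orderOf t = 3 →
    S.Pj j ≤ Subgroup.normalizer ((⁅S.Vj j, Subgroup.zpowers t⁆ : Subgroup G) : Set G)
  comm_le_W : ∀ (j : ℤ) (X : Subgroup G), S.IsSyl j X → ∀ t ∈ S.Pj j, orderOf t = 3 →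
    ⁅S.Vj j, X⁆ ≤ ⁅S.Vj j, Subgroup.zpowers t⁆

/-- section 7 of the blueprint: `Z_i ≤ P_j` for `i - l + 1 ≤ j ≤ i + l` and not beyond; `[Z_i, Z_(i+l)] ≠ 1` -/
structure Ell (l : ℕ) : Prop where
  le : ∀ i j : ℤ, i - l + 1 ≤ j → j ≤ i + l → S.Zj i ≤ S.Pj j
  not_le_right : ∀ i : ℤ, ¬ S.Zj i ≤ S.Pj (i + l + 1)
  not_le_left : ∀ i : ℤ, ¬ S.Zj i ≤ S.Pj (i - l)
  nc : ∀ i : ℤ, ¬ Comm (S.Zj i) (S.Zj (i + l))

/-- the outcome of (9a)-(9c): the case `l = 3` gives involutions `y_j` generating `Y_j = Ω₁ Z(P_j)` -/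
structure Y3 (y : ℤ → G) : Prop where
  Y_eq : ∀ j : ℤ, S.Yj j = Subgroup.zpowers (y j)
  ne_one : ∀ j : ℤ, y j ≠ 1
  sq : ∀ j : ℤ, y j ^ 2 = 1
  comm : ∀ i j : ℤ, |i - j| ≤ 3 → y i * y j = y j * y i
  rel : ∀ j : ℤ, y j * y (j + 4) * y j * y (j + 4) = y (j + 2)
  mem : ∀ i j : ℤ, |i - j| ≤ 3 → y j ∈ S.Pj i
  not_mem_right : ∀ j : ℤ, y j ∉ S.Pj (j + 4)
  not_mem_left : ∀ j : ℤ, y j ∉ S.Pj (j - 4)
  sp : ∀ j : ℤ, ∃ g ∈ S.Pj j, MulAut.conj g • S.Pj (j + 1) = S.Pj (j - 1)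

/-- the outcome of (8a)-(8d): the case `l = 2` -/
structure L2 : Prop where
  Q_eq_V : S.Qj 0 = S.Vj 0
  ex : ∃ W : Subgroup G, W ≤ S.Vj 0 ∧ S.Pj 0 ≤ Subgroup.normalizer (W : Set G) ∧ Nat.card W = 4 ∧
    S.Yj 0 ⊔ W = S.Vj 0 ∧ S.Yj 0 ⊓ W = ⊥ ∧ Nat.card (S.Yj 0) ≤ 2 ∧
    ∃ w ∈ S.Pj 0, w ^ 2 = 1 ∧ w ∉ S.Qj 0

end Setup

end Cfsg.Agent.Lib.H5.Sims
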