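import Cfsg.Agent.Lib.H5.Sims.Defs

/-! # S3685 piece (L3A): the case `l = 3`, (9a)-(9c) of `tools/blueprints/S3685.md` -/

set_option autoImplicit false

namespace Cfsg.Agent.Lib.H5.Sims

open scoped Pointwise commutatorElement

variable {G : Type*} [Group G] [Finite G]

namespace Setup

variable (S : Setup G)

theorem isSylR (i j : ℤ) (h : j = i + 1) : S.IsSyl j (S.Tj i) := by
  subst h; exact S.isSyl_Tj_succ i

theorem Tj_ne_succ (hL : S.Loc) (i j : ℤ) (h : j = i + 1) : S.Tj i ≠ S.Tj j := by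
  subst h
  have := hL.bent (i + 1)
  rwa [add_sub_cancel_right] at this

theorem Z_le_T3 (hl : S.Ell 3) (i k : ℤ) (h1 : i - 2 ≤ k) (h2 : k ≤ i + 2) : S.Zj i ≤ S.Tj k :=
  le_inf (hl.le i k (by push_cast; omega) (by push_cast; omega))
    (hl.le i (k + 1) (by push_cast; omega) (by push_cast; omega))

theorem card_Yj (j : ℤ) : Nat.card (S.Yj j) = Nat.card (S.Yj 0) := by
  have := S.conj_Yj j 0
  rw [add_zero] at this
  rw [← this]; exact card_conj_smul _ _

/-- (7a)+(7b) for `l = 3` -/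
theorem A_le_Y (hL : S.Loc) (hC : S.Con) (hM : S.Mod) (hl : S.Ell 3) (i : ℤ) :
    ⁅S.Zj i, S.Zj (i + 3)⁆ ≤ S.Yj (i + 2) := by
  rw [← hM.Z_inf (i + 2) (S.Tj (i + 1)) (S.Tj (i + 2)) (S.isSylR (i + 1) (i + 2) (by ring))
    (S.isSyl_Tj (i + 2)) (S.Tj_ne_succ hL (i + 1) (i + 2) (by ring))]
  refine le_inf ?_ ?_
  · calc ⁅S.Zj i, S.Zj (i + 3)⁆ ≤ ⁅S.Vj (i + 1), S.Tj (i + 1)⁆ :=
          Subgroup.commutator_mono (hC.Z_le_V (i + 1) (S.Tj i) (S.isSylR i (i + 1) rfl))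
            (S.Z_le_T3 hl (i + 3) (i + 1) (by omega) (by omega))
      _ ≤ zOf (S.Tj (i + 1)) := hM.comm_le (i + 1) (S.Tj (i + 1)) (S.isSyl_Tj (i + 1))
  · calc ⁅S.Zj i, S.Zj (i + 3)⁆ = ⁅S.Zj (i + 3), S.Zj i⁆ := Subgroup.commutator_comm _ _
      _ ≤ ⁅S.Vj (i + 3), S.Tj (i + 2)⁆ :=
          Subgroup.commutator_mono (hC.Z_le_V (i + 3) (S.Tj (i + 3)) (S.isSyl_Tj (i + 3)))
            (S.Z_le_T3 hl i (i + 2) (by omega) (by omega))
      _ ≤ zOf (S.Tj (i + 2)) := hM.comm_le (i + 3) (S.Tj (i + 2)) (S.isSylR (i + 2) (i + 3) (by ring))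

/-- (9a), first half -/
theorem commVT_le_A (hL : S.Loc) (hM : S.Mod) (hl : S.Ell 3) (i : ℤ) :
    ⁅S.Vj (i + 3), S.Tj (i + 2)⁆ ≤ ⁅S.Zj i, S.Zj (i + 3)⁆ := by
  obtain ⟨s, hsZ, hsP⟩ := SetLike.not_le_iff_exists.1 (hl.not_le_right i)
  have hsT : s ∈ S.Tj (i + 2) := S.Z_le_T3 hl i (i + 2) (by omega) (by omega) hsZ
  have hsQ : s ∉ S.Qj (i + 3) := by
    intro h
    apply hsP
    have h1 : s ∈ S.Tj (i + 3) := S.Qj_le_right _ h
    have h2 := S.Tj_le_right _ h1
    have e : i + 3 + 1 = i + (3 : ℕ) + 1 := by push_cast; ring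
    rwa [e] at h2
  intro x hx
  obtain ⟨z, hz, rfl⟩ := hM.comm_eq (i + 3) (S.Tj (i + 2)) (S.Tj (i + 3))
    (S.isSylR (i + 2) (i + 3) (by ring)) (S.isSyl_Tj (i + 3))
    (S.Tj_ne_succ hL (i + 2) (i + 3) (by ring)) s hsT hsQ x hx
  rw [Subgroup.commutator_comm]
  have := Subgroup.commutator_mem_commutator (H₁ := S.Zj (i + 3)) (H₂ := S.Zj i) hz hsZ
  rwa [commutatorElement_def] at this

/-- (9a), second half -/
theorem commVT_le_A' (hL : S.Loc) (hM : S.Mod) (hl : S.Ell 3) (i : ℤ) :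
    ⁅S.Vj (i + 1), S.Tj (i + 1)⁆ ≤ ⁅S.Zj i, S.Zj (i + 3)⁆ := by
  obtain ⟨s, hsZ, hsP⟩ := SetLike.not_le_iff_exists.1 (hl.not_le_left (i + 3))
  have hsT : s ∈ S.Tj (i + 1) := S.Z_le_T3 hl (i + 3) (i + 1) (by omega) (by omega) hsZ
  have hsQ : s ∉ S.Qj (i + 1) := by
    intro h
    apply hsP
    have h1 : s ∈ S.Tj (i + 1 - 1) := S.Qj_le_left _ h
    have h2 := S.Tj_le_left _ h1
    have e : i + 1 - 1 = i + 3 - (3 : ℕ) := by push_cast; ring
    rwa [e] at h2
  intro x hx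
  obtain ⟨z, hz, rfl⟩ := hM.comm_eq (i + 1) (S.Tj (i + 1)) (S.Tj i)
    (S.isSyl_Tj (i + 1)) (S.isSylR i (i + 1) rfl)
    (S.Tj_ne_succ hL i (i + 1) rfl).symm s hsT hsQ x hx
  have := Subgroup.commutator_mem_commutator (H₁ := S.Zj i) (H₂ := S.Zj (i + 3)) hz hsZ
  rwa [commutatorElement_def] at this

/-- (In): `Y_(i+2) = [V_(i+3), T_(i+2)]` -/
theorem inEq (hL : S.Loc) (hC : S.Con) (hM : S.Mod) (hl : S.Ell 3) (i : ℤ) :
    ⁅S.Vj (i + 3), S.Tj (i + 2)⁆ = S.Yj (i + 2) := by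
  apply Subgroup.eq_of_le_of_card_ge ((S.commVT_le_A hL hM hl i).trans (S.A_le_Y hL hC hM hl i))
  rw [S.card_Yj, hM.card_comm (i + 3) (S.Tj (i + 2)) (S.isSylR (i + 2) (i + 3) (by ring))]
  exact hM.card_Y_le

/-- (Out): `Y_(i+2) = [V_(i+1), T_(i+1)]` -/
theorem outEq (hL : S.Loc) (hC : S.Con) (hM : S.Mod) (hl : S.Ell 3) (i : ℤ) :
    ⁅S.Vj (i + 1), S.Tj (i + 1)⁆ = S.Yj (i + 2) := by
  apply Subgroup.eq_of_le_of_card_ge ((S.commVT_le_A' hL hM hl i).trans (S.A_le_Y hL hC hM hl i))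
  rw [S.card_Yj, hM.card_comm (i + 1) (S.Tj (i + 1)) (S.isSyl_Tj (i + 1))]
  exact hM.card_Y_le

/-- (In), general index: `Y_j = [V_k, T_j]` for `k = j + 1` -/
theorem inEq' (hL : S.Loc) (hC : S.Con) (hM : S.Mod) (hl : S.Ell 3) (j k : ℤ) (hk : k = j + 1) :
    ⁅S.Vj k, S.Tj j⁆ = S.Yj j := by
  have := S.inEq hL hC hM hl (j - 2)
  have e1 : j - 2 + 3 = k := by omega
  have e2 : j - 2 + 2 = j := by omega
  rwa [e1, e2] at this

/-- (Out), general index: `Y_k = [V_j, T_j]` for `k = j + 1` -/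
theorem outEq' (hL : S.Loc) (hC : S.Con) (hM : S.Mod) (hl : S.Ell 3) (j k : ℤ) (hk : k = j + 1) :
    ⁅S.Vj j, S.Tj j⁆ = S.Yj k := by
  have := S.outEq hL hC hM hl (j - 1)
  have e1 : j - 1 + 1 = j := by omega
  have e2 : j - 1 + 2 = k := by omega
  rwa [e1, e2] at this

/-- `Z_j = Y_j ⊔ Y_(j+1)` -/
theorem Z_eq_YY (hL : S.Loc) (hC : S.Con) (hM : S.Mod) (hl : S.Ell 3) (j k : ℤ) (hk : k = j + 1) :
    S.Zj j = S.Yj j ⊔ S.Yj k := by
  rw [← S.outEq' hL hC hM hl j k hk]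
  exact hM.Z_eq j (S.Tj j) (S.isSyl_Tj j)

theorem A_ne_bot (hl : S.Ell 3) (i : ℤ) : ⁅S.Zj i, S.Zj (i + 3)⁆ ≠ ⊥ := by
  intro h
  apply hl.nc i
  have e : i + ((3 : ℕ) : ℤ) = i + 3 := by push_cast; ring
  rw [e]
  intro a ha b hb
  have := Subgroup.commutator_mem_commutator ha hb
  rw [h, Subgroup.mem_bot, commutatorElement_eq_one_iff_mul_comm] at this
  exact this

theorem Y_ne_bot (hL : S.Loc) (hC : S.Con) (hM : S.Mod) (hl : S.Ell 3) (j : ℤ) : S.Yj j ≠ ⊥ := by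
  intro h
  have h1 := S.A_le_Y hL hC hM hl (j - 2)
  have e : j - 2 + 2 = j := by omega
  rw [e, h, le_bot_iff] at h1
  exact S.A_ne_bot hl _ h1

omit [Finite G] in
theorem conj_smul_eq_of_mem_normalizer {g : G} {X : Subgroup G}
    (h : g ∈ Subgroup.normalizer (X : Set G)) : MulAut.conj g • X = X := by
  ext x
  rw [mem_conj_smul]
  exact ((Subgroup.mem_normalizer_iff''.1 h) x).symm

omit [Finite G] in
theorem le_normalizer_zOf (H : Subgroup G) : H ≤ Subgroup.normalizer (zOf H : Set G) := by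
  intro p hp
  rw [Subgroup.mem_normalizer_iff]
  intro x
  constructor
  · intro hx
    have : p * x * p⁻¹ = x := by rw [hx.2.2 p hp]; simp
    rw [this]; exact hx
  · intro hx
    have h1 : p * x * p⁻¹ ∈ H := hx.1
    have h2 : x ∈ H := by
      have := H.mul_mem (H.mul_mem (H.inv_mem hp) h1) hp
      simpa [mul_assoc] using this
    have h3 := hx.2.2 p hp
    have h4 : p * x * p⁻¹ = x := by
      have : p * (p * x * p⁻¹) = p * x := by rw [h3]; simp
      exact mul_left_cancel this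
    rw [← h4]; exact hx

omit [Finite G] in
theorem conj_smul_commutator (g : G) (A B : Subgroup G) :
    MulAut.conj g • ⁅A, B⁆ = ⁅MulAut.conj g • A, MulAut.conj g • B⁆ := by
  simp only [Subgroup.pointwise_smul_def]
  exact Subgroup.map_commutator A B _

/-- (9b): the chain is self-paired -/
theorem sp3 (hL : S.Loc) (hC : S.Con) (hM : S.Mod) (hl : S.Ell 3) (j : ℤ) :
    ∃ g ∈ S.Pj j, MulAut.conj g • S.Pj (j + 1) = S.Pj (j - 1) := by
  obtain ⟨g, hg, hgT⟩ := hL.syl_conj j (S.Tj j) (S.Tj (j - 1)) (S.isSyl_Tj j) (S.isSyl_Tj_pred j)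
  refine ⟨g, hg, ?_⟩
  by_contra hne
  have key : zOf (MulAut.conj g • S.Pj (j + 1)) = S.Yj (j - 1) := by
    rw [zOf_conj_smul]
    change MulAut.conj g • S.Yj (j + 1) = _
    rw [← S.outEq' hL hC hM hl j (j + 1) rfl, conj_smul_commutator,
      conj_smul_eq_of_mem_normalizer (hC.V_norm j hg), hgT]
    exact S.inEq' hL hC hM hl (j - 1) j (by ring)
  have e1 : MulAut.conj g • S.Pj (j + 1) = MulAut.conj (g * S.h ^ (j + 1)) • S.P := by
    simp only [Pj, smul_smul, map_mul]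
  have h0 := S.no_common_normal (S.h ^ (j - 1)) (g * S.h ^ (j + 1)) (S.Yj (j - 1)) (S.Yj_le (j - 1))
    (le_normalizer_zOf _) (by rw [← e1, ← key]; exact le_normalizer_zOf _)
    (by rw [← e1]; exact fun h => hne h.symm)
  exact S.Y_ne_bot hL hC hM hl (j - 1) h0

theorem Y_le_Zj (hC : S.Con) (j : ℤ) : S.Yj j ≤ S.Zj j := hC.Y_le_Z j (S.Tj j) (S.isSyl_Tj j)

theorem Y_le_Zpred (hC : S.Con) (j k : ℤ) (hk : j = k + 1) : S.Yj j ≤ S.Zj k :=
  hC.Y_le_Z j (S.Tj k) (S.isSylR k j hk)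

theorem Y_le_P (hC : S.Con) (hl : S.Ell 3) (i j : ℤ) (h : |i - j| ≤ 3) : S.Yj j ≤ S.Pj i := by
  rw [abs_le] at h
  by_cases h1 : j - 2 ≤ i
  · exact (S.Y_le_Zj hC j).trans (hl.le j i (by push_cast; omega) (by push_cast; omega))
  · exact (S.Y_le_Zpred hC j (j - 1) (by ring)).trans
      (hl.le (j - 1) i (by push_cast; omega) (by push_cast; omega))

theorem Y_comm (hC : S.Con) (hl : S.Ell 3) (i j : ℤ) (h1 : i ≤ j) (h2 : j ≤ i + 3) :
    ∀ a ∈ S.Yj i, ∀ b ∈ S.Yj j, a * b = b * a := by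
  intro a ha b hb
  have ha' : a ∈ S.Tj (j - 1) := S.Z_le_T3 hl i (j - 1) (by omega) (by omega) (S.Y_le_Zj hC i ha)
  have hb' : b ∈ zOf (S.Tj (j - 1)) := S.Y_le_Zpred hC j (j - 1) (by ring) hb
  exact hb'.2.2 a ha'

omit [Finite G] in
theorem index_two_mul [Finite G] {T Q : Subgroup G} (hQT : Q ≤ T) (hc : Nat.card T = 2 * Nat.card Q)
    {a b : G} (ha : a ∈ T) (hb : b ∈ T) (ha' : a ∉ Q) (hb' : b ∉ Q) : a * b ∈ Q := by
  have hidx : (Q.subgroupOf T).index = 2 := by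
    have h1 := Subgroup.card_mul_index (Q.subgroupOf T)
    have h2 : Nat.card (Q.subgroupOf T) = Nat.card Q :=
      Nat.card_congr (Subgroup.subgroupOfEquivOfLe hQT).toEquiv
    rw [h2, hc] at h1
    have hpos : 0 < Nat.card Q := Nat.card_pos
    nlinarith
  have := (Subgroup.mul_mem_iff_of_index_two hidx (a := (⟨a, ha⟩ : T)) (b := ⟨b, hb⟩))
  have h3 : ((⟨a, ha⟩ : T) * ⟨b, hb⟩) ∈ Q.subgroupOf T := by
    rw [this]
    simp only [Subgroup.mem_subgroupOf]
    exact ⟨fun h => absurd h ha', fun h => absurd h hb'⟩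
  simpa [Subgroup.mem_subgroupOf] using h3

/-- (9c): `Y_i` has at most one non-identity element -/
theorem Y_dichotomy (hL : S.Loc) (hC : S.Con) (hM : S.Mod) (hl : S.Ell 3) (i : ℤ) :
    ∀ a ∈ S.Yj i, ∀ b ∈ S.Yj i, a ≠ 1 → b ≠ 1 → a = b := by
  -- the element `u`
  have hZ : S.Zj (i + 3) = S.Yj (i + 3) ⊔ S.Yj (i + 4) := S.Z_eq_YY hL hC hM hl (i + 3) (i + 4) (by ring)
  have hnle : ¬ S.Yj (i + 4) ≤ S.Pj i := by
    intro h
    apply hl.not_le_left (i + 3)
    have e : i + 3 - ((3 : ℕ) : ℤ) = i := by push_cast; ring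
    rw [e, hZ]
    exact sup_le (S.Y_le_P hC hl i (i + 3) (by rw [abs_le]; constructor <;> omega)) h
  obtain ⟨u, hu, huP⟩ := SetLike.not_le_iff_exists.1 hnle
  have huZ : u ∈ S.Zj (i + 3) := S.Y_le_Zpred hC (i + 4) (i + 3) (by ring) hu
  have huV : u ∈ S.Vj (i + 3) := hC.Z_le_V (i + 3) (S.Tj (i + 3)) (S.isSyl_Tj (i + 3)) huZ
  have huT : u ∈ S.Tj (i + 1) := S.Z_le_T3 hl (i + 3) (i + 1) (by omega) (by omega) huZ
  have huQ : u ∉ S.Qj (i + 1) := by
    intro h
    apply huP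
    have h1 : u ∈ S.Tj (i + 1 - 1) := S.Qj_le_left _ h
    have h2 := S.Tj_le_left _ h1
    rwa [add_sub_cancel_right] at h2
  -- Claim B
  have hB : ∀ y ∈ S.Yj i, y * u = u * y → y = 1 := by
    intro y hy hyu
    have hyZ : y ∈ S.Zj i := S.Y_le_Zj hC i hy
    have hyV : y ∈ S.Vj (i + 1) := hC.Z_le_V (i + 1) (S.Tj i) (S.isSylR i (i + 1) rfl) hyZ
    have hyQ : y ∈ S.Qj (i + 1) := hC.V_le_Q (i + 1) hyV
    have hyT : y ∈ S.Tj (i + 1) := S.Qj_le_right _ hyQ
    have hcard : Nat.card (S.Tj (i + 1)) = 2 * Nat.card (S.Qj (i + 1)) := by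
      rw [S.card_Tj]; exact hL.cardQ (i + 1)
    have hyZ1 : y ∈ zOf (S.Tj (i + 1)) := by
      refine ⟨hyT, hy.2.1, fun x hx => ?_⟩
      by_cases hxQ : x ∈ S.Qj (i + 1)
      · exact (hC.V_comm_Q (i + 1) y hyV x hxQ).symm
      · have hxu : x * u ∈ S.Qj (i + 1) := index_two_mul (S.Qj_le_right _) hcard hx huT hxQ huQ
        have h1 : y * (x * u) = (x * u) * y := hC.V_comm_Q (i + 1) y hyV _ hxu
        have h2 : x = (x * u) * u⁻¹ := by simp
        have h3 : y * u⁻¹ = u⁻¹ * y := by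
          have : u⁻¹ * (y * u) * u⁻¹ = u⁻¹ * (u * y) * u⁻¹ := by rw [hyu]
          simpa [mul_assoc] using this.symm
        rw [h2, mul_assoc, ← h3, ← mul_assoc, ← mul_assoc, h1]
    have h1 : y ∈ S.Yj (i + 1) := by
      rw [← hM.Z_inf (i + 1) (S.Tj i) (S.Tj (i + 1)) (S.isSylR i (i + 1) rfl) (S.isSyl_Tj (i + 1))
        (S.Tj_ne_succ hL i (i + 1) rfl)]
      exact ⟨hyZ, hyZ1⟩
    have h2 : y ∈ S.Yj i ⊓ S.Yj (i + 1) := ⟨hy, h1⟩
    rw [hC.Y_inf i (i + 1) (hL.P_ne i), Subgroup.mem_bot] at h2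
    exact h2
  -- Claim C
  have hCc : ∀ y ∈ S.Yj i, y ∈ S.Qj (i + 3) → y = 1 := by
    intro y hy hyQ
    exact hB y hy (hC.V_comm_Q (i + 3) u huV y hyQ).symm
  intro a ha b hb ha1 hb1
  have haT : a ∈ S.Tj (i + 2) := S.Z_le_T3 hl i (i + 2) (by omega) (by omega) (S.Y_le_Zj hC i ha)
  have hbT : b ∈ S.Tj (i + 2) := S.Z_le_T3 hl i (i + 2) (by omega) (by omega) (S.Y_le_Zj hC i hb)
  have hcard : Nat.card (S.Tj (i + 2)) = 2 * Nat.card (S.Qj (i + 3)) := by
    rw [S.card_Tj]; exact hL.cardQ (i + 3)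
  have hQT : S.Qj (i + 3) ≤ S.Tj (i + 2) := by
    have := S.Qj_le_left (i + 3)
    have e : i + 3 - 1 = i + 2 := by ring
    rwa [e] at this
  have hab : a * b ∈ S.Qj (i + 3) :=
    index_two_mul hQT hcard haT hbT (fun h => ha1 (hCc a ha h)) (fun h => hb1 (hCc b hb h))
  have h1 : a * b = 1 := hCc (a * b) ((S.Yj i).mul_mem ha hb) hab
  have hb2 : b ^ 2 = 1 := hb.2.1
  calc a = a * b * b := by rw [mul_assoc, ← pow_two, hb2, mul_one]
    _ = b := by rw [h1, one_mul]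

omit [Finite G] in
theorem exists_ne_one_of_ne_bot {H : Subgroup G} (h : H ≠ ⊥) : ∃ x ∈ H, x ≠ 1 := by
  by_contra hc
  push Not at hc
  apply h
  rw [eq_bot_iff]
  intro x hx
  rw [Subgroup.mem_bot]; exact hc x hx

/-- (L3A): (9a)-(9c) of the blueprint -/
theorem l3a (S : Setup G) (hb : S.Bent) (hL : S.Loc) (hC : S.Con) (hM : S.Mod) (hl : S.Ell 3) :
    ∃ y : ℤ → G, S.Y3 y := by
  have hex : ∀ j : ℤ, ∃ x ∈ S.Yj j, x ≠ 1 := fun j => exists_ne_one_of_ne_bot (S.Y_ne_bot hL hC hM hl j)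
  choose y hyY hy1 using hex
  have hdich : ∀ j : ℤ, ∀ a ∈ S.Yj j, a = 1 ∨ a = y j := by
    intro j a ha
    by_cases h : a = 1
    · exact Or.inl h
    · exact Or.inr (S.Y_dichotomy hL hC hM hl j a ha (y j) (hyY j) h (hy1 j))
  have hsq : ∀ j : ℤ, y j ^ 2 = 1 := fun j => (hyY j).2.1
  have hinv : ∀ j : ℤ, (y j)⁻¹ = y j := by
    intro j
    have := hsq j
    rw [pow_two] at this
    exact inv_eq_of_mul_eq_one_left this
  have hYeq : ∀ j : ℤ, S.Yj j = Subgroup.zpowers (y j) := by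
    intro j
    apply le_antisymm
    · intro a ha
      rcases hdich j a ha with h | h
      · rw [h]; exact Subgroup.one_mem _
      · rw [h]; exact Subgroup.mem_zpowers _
    · rw [Subgroup.zpowers_le]; exact hyY j
  have hcomm : ∀ i j : ℤ, |i - j| ≤ 3 → y i * y j = y j * y i := by
    intro i j h
    rw [abs_le] at h
    rcases le_total i j with hij | hij
    · exact S.Y_comm hC hl i j hij (by omega) (y i) (hyY i) (y j) (hyY j)
    · exact (S.Y_comm hC hl j i hij (by omega) (y j) (hyY j) (y i) (hyY i)).symm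
  have hmem : ∀ i j : ℤ, |i - j| ≤ 3 → y j ∈ S.Pj i := fun i j h => S.Y_le_P hC hl i j h (hyY j)
  refine ⟨y, ⟨hYeq, hy1, hsq, hcomm, ?_, hmem, ?_, ?_, fun j => S.sp3 hL hC hM hl j⟩⟩
  · -- the relation
    intro j
    have hc : ⁅y j, y (j + 4)⁆ ∈ S.Yj (j + 2) := by
      apply S.A_le_Y hL hC hM hl j
      exact Subgroup.commutator_mem_commutator (S.Y_le_Zj hC j (hyY j))
        (S.Y_le_Zpred hC (j + 4) (j + 3) (by ring) (hyY (j + 4)))
    have hce : ⁅y j, y (j + 4)⁆ = y j * y (j + 4) * y j * y (j + 4) := by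
      rw [commutatorElement_def, hinv, hinv]
    rw [← hce]
    rcases hdich (j + 2) _ hc with h | h
    · exfalso
      rw [commutatorElement_eq_one_iff_mul_comm] at h
      apply hl.nc j
      have e : j + ((3 : ℕ) : ℤ) = j + 3 := by push_cast; ring
      rw [e, S.Z_eq_YY hL hC hM hl j (j + 1) rfl, S.Z_eq_YY hL hC hM hl (j + 3) (j + 4) (by ring)]
      -- everything commutes
      have key : S.Yj (j + 3) ⊔ S.Yj (j + 4) ≤
          Subgroup.centralizer ((S.Yj j ⊔ S.Yj (j + 1) : Subgroup G) : Set G) := by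
        refine sup_le ?_ ?_
        · intro b hb
          rw [Subgroup.mem_centralizer_iff]
          intro a ha
          have : S.Yj j ⊔ S.Yj (j + 1) ≤ Subgroup.centralizer ({b} : Set G) := by
            refine sup_le ?_ ?_
            · intro a ha
              rw [Subgroup.mem_centralizer_iff]
              intro c hc
              rw [Set.mem_singleton_iff] at hc
              rw [hc]
              exact (S.Y_comm hC hl j (j + 3) (by omega) (by omega) a ha b hb).symm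
            · intro a ha
              rw [Subgroup.mem_centralizer_iff]
              intro c hc
              rw [Set.mem_singleton_iff] at hc
              rw [hc]
              exact (S.Y_comm hC hl (j + 1) (j + 3) (by omega) (by omega) a ha b hb).symm
          have h2 := this ha
          rw [Subgroup.mem_centralizer_iff] at h2
          exact (h2 b rfl).symm
        · intro b hb
          rw [Subgroup.mem_centralizer_iff]
          intro a ha
          have : S.Yj j ⊔ S.Yj (j + 1) ≤ Subgroup.centralizer ({b} : Set G) := by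
            refine sup_le ?_ ?_
            · intro a ha
              rw [Subgroup.mem_centralizer_iff]
              intro c hc
              rw [Set.mem_singleton_iff] at hc
              rw [hc]
              rcases hdich j a ha with h1 | h1 <;> rcases hdich (j + 4) b hb with h2 | h2
              · rw [h1, h2]
              · rw [h1]; simp
              · rw [h2]; simp
              · rw [h1, h2]; exact h.symm
            · intro a ha
              rw [Subgroup.mem_centralizer_iff]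
              intro c hc
              rw [Set.mem_singleton_iff] at hc
              rw [hc]
              exact (S.Y_comm hC hl (j + 1) (j + 4) (by omega) (by omega) a ha b hb).symm
          have h2 := this ha
          rw [Subgroup.mem_centralizer_iff] at h2
          exact (h2 b rfl).symm
      intro a ha b hb
      have := key hb
      rw [Subgroup.mem_centralizer_iff] at this
      exact this a ha
    · exact h
  · -- y_j ∉ P_(j+4)
    intro j hmemj
    apply hl.not_le_right j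
    have e : j + ((3 : ℕ) : ℤ) + 1 = j + 4 := by push_cast; ring
    rw [e, S.Z_eq_YY hL hC hM hl j (j + 1) rfl, hYeq j]
    refine sup_le ?_ ?_
    · rw [Subgroup.zpowers_le]; exact hmemj
    · exact S.Y_le_P hC hl (j + 4) (j + 1) (by rw [abs_le]; constructor <;> omega)
  · -- y_j ∉ P_(j-4)
    intro j hmemj
    apply hl.not_le_left (j - 1)
    have e : j - 1 - ((3 : ℕ) : ℤ) = j - 4 := by push_cast; ring
    rw [e, S.Z_eq_YY hL hC hM hl (j - 1) j (by ring), hYeq j]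
    refine sup_le ?_ ?_
    · exact S.Y_le_P hC hl (j - 4) (j - 1) (by rw [abs_le]; constructor <;> omega)
    · rw [Subgroup.zpowers_le]; exact hmemj

end Setup

end Cfsg.Agent.Lib.H5.Sims
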