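import Cfsg.Agent.Lib.H5.Sims.L3A
import Cfsg.Agent.Lib.H1.CoprimeAction
import Cfsg.Agent.Lib.H10.SimsLOC3

/-! # S3685 piece (L2A): the case `l = 2`, (8a)-(8d) of `tools/blueprints/S3685.md` -/

set_option autoImplicit false

namespace Cfsg.Agent.Lib.H5.Sims

open scoped Pointwise commutatorElement

variable {G : Type*} [Group G] [Finite G]

namespace Setup

variable (S : Setup G)

omit [Finite G] in
theorem card_two_dichotomy {H : Subgroup G} (hc : Nat.card H = 2) {a : G} (ha : a ∈ H) (ha1 : a ≠ 1) :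
    ∀ x ∈ H, x = 1 ∨ x = a := by
  intro x hx
  by_cases h : x = 1
  · exact Or.inl h
  · right
    obtain ⟨y, _, hy2⟩ := (Nat.card_eq_two_iff' (1 : H)).1 hc
    have h1 : (⟨x, hx⟩ : H) = y := hy2 _ (by intro h'; apply h; exact congrArg Subtype.val h')
    have h2 : (⟨a, ha⟩ : H) = y := hy2 _ (by intro h'; apply ha1; exact congrArg Subtype.val h')
    have := h1.trans h2.symm
    exact congrArg Subtype.val this

omit [Finite G] in
theorem le_normalizer_of_conj_mem {P N : Subgroup G} (h : ∀ p ∈ P, ∀ x ∈ N, p * x * p⁻¹ ∈ N) :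
    P ≤ Subgroup.normalizer (N : Set G) := by
  intro p hp
  rw [Subgroup.mem_normalizer_iff]
  intro x
  constructor
  · exact h p hp x
  · intro hx
    have := h p⁻¹ (P.inv_mem hp) _ hx
    simpa [mul_assoc] using this

omit [Finite G] in
theorem conj_mem_of_le_normalizer {P N : Subgroup G} (h : P ≤ Subgroup.normalizer (N : Set G))
    {p x : G} (hp : p ∈ P) (hx : x ∈ N) : p * x * p⁻¹ ∈ N :=
  (Subgroup.mem_normalizer_iff.1 (h hp) x).1 hx

/-- the kernel of the action of `P_a` on `Q_a / V_a` -/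
def aker (hL : S.Loc) (hC : S.Con) (a : ℤ) : Subgroup G where
  carrier := {g | g ∈ S.Pj a ∧ ∀ q ∈ S.Qj a, g * q * g⁻¹ * q⁻¹ ∈ S.Vj a}
  one_mem' := ⟨one_mem _, fun q _ => by simp⟩
  mul_mem' := by
    rintro g g' ⟨hg, hgq⟩ ⟨hg', hgq'⟩
    refine ⟨mul_mem hg hg', fun q hq => ?_⟩
    have h1 : g * (g' * q * g'⁻¹ * q⁻¹) * g⁻¹ ∈ S.Vj a :=
      conj_mem_of_le_normalizer (hC.V_norm a) hg (hgq' q hq)
    have h2 := (S.Vj a).mul_mem h1 (hgq q hq)
    have e : g * (g' * q * g'⁻¹ * q⁻¹) * g⁻¹ * (g * q * g⁻¹ * q⁻¹) = g * g' * q * (g * g')⁻¹ * q⁻¹ := by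
      simp [mul_assoc]
    rwa [e] at h2
  inv_mem' := by
    rintro g ⟨hg, hgq⟩
    refine ⟨inv_mem hg, fun q hq => ?_⟩
    have hq' : g⁻¹ * q * g ∈ S.Qj a := by
      have := conj_mem_of_le_normalizer (hL.Q_norm a) (inv_mem hg) hq
      simpa using this
    have h1 := (S.Vj a).inv_mem (hgq _ hq')
    have e : (g * (g⁻¹ * q * g) * g⁻¹ * (g⁻¹ * q * g)⁻¹)⁻¹ = g⁻¹ * q * g⁻¹⁻¹ * q⁻¹ := by
      simp [mul_assoc]
    rwa [e] at h1

theorem aker_le (hL : S.Loc) (hC : S.Con) (a : ℤ) : S.aker hL hC a ≤ S.Pj a := fun _ h => h.1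

theorem le_normalizer_aker (hL : S.Loc) (hC : S.Con) (a : ℤ) :
    S.Pj a ≤ Subgroup.normalizer (S.aker hL hC a : Set G) := by
  apply le_normalizer_of_conj_mem
  rintro p hp g ⟨hg, hgq⟩
  refine ⟨mul_mem (mul_mem hp hg) (inv_mem hp), fun q hq => ?_⟩
  have hq' : p⁻¹ * q * p ∈ S.Qj a := by
    have := conj_mem_of_le_normalizer (hL.Q_norm a) (inv_mem hp) hq
    simpa using this
  have h1 := conj_mem_of_le_normalizer (hC.V_norm a) hp (hgq _ hq')
  have e : p * (g * (p⁻¹ * q * p) * g⁻¹ * (p⁻¹ * q * p)⁻¹) * p⁻¹ = p * g * p⁻¹ * q * (p * g * p⁻¹)⁻¹ * q⁻¹ := by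
    simp [mul_assoc]
  rwa [e] at h1

/-- the data of one side of the pair `(P_a, P_b)` with common Sylow 2-subgroup `T` -/
structure Side (a b : ℤ) (T : Subgroup G) (va vb t : G) : Prop where
  hTa : S.IsSyl a T
  hTb : S.IsSyl b T
  hQa : S.Qj a ≤ T
  hQb : S.Qj b ≤ T
  hva : va ∈ S.Vj a
  hvb : vb ∈ S.Vj b
  hne : va * vb ≠ vb * va
  ht : t ∈ S.Pj a
  ht3 : orderOf t = 3
  hct : vb * t * vb⁻¹ * t ∈ S.Qj a
  hc2 : Nat.card ↥⁅S.Vj 0, S.Tj 0⁆ = 2

namespace Side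

variable {S} {a b : ℤ} {T : Subgroup G} {va vb t : G}

theorem vbT (h : S.Side a b T va vb t) (hC : S.Con) : vb ∈ T := h.hQb (hC.V_le_Q b h.hvb)

theorem vaT (h : S.Side a b T va vb t) (hC : S.Con) : va ∈ T := h.hQa (hC.V_le_Q a h.hva)

theorem vb_not_mem (h : S.Side a b T va vb t) (hC : S.Con) : vb ∉ S.Qj a := fun hq =>
  h.hne (hC.V_comm_Q a va h.hva vb hq)

theorem va_not_mem (h : S.Side a b T va vb t) (hC : S.Con) : va ∉ S.Qj b := fun hq =>
  h.hne (hC.V_comm_Q b vb h.hvb va hq).symm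

/-- `[V_b, T] ≤ V_a` -/
theorem commVbT_le (h : S.Side a b T va vb t) (hC : S.Con) (hM : S.Mod) : ⁅S.Vj b, T⁆ ≤ S.Vj a :=
  (hM.comm_le b T h.hTb).trans (hC.Z_le_V a T h.hTa)

theorem vb_mem_aker (h : S.Side a b T va vb t) (hL : S.Loc) (hC : S.Con) (hM : S.Mod) :
    vb ∈ S.aker hL hC a := by
  refine ⟨h.hTa.1 (h.vbT hC), fun q hq => ?_⟩
  apply h.commVbT_le hC hM
  have := Subgroup.commutator_mem_commutator h.hvb (h.hQa hq)
  rwa [commutatorElement_def] at this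

theorem t_mem_aker (h : S.Side a b T va vb t) (hL : S.Loc) (hC : S.Con) (hM : S.Mod) :
    t ∈ S.aker hL hC a :=
  hL.three_mem a _ (S.aker_le hL hC a) (S.le_normalizer_aker hL hC a)
    (fun hle => h.vb_not_mem hC (hle (h.vb_mem_aker hL hC hM))) t h.ht h.ht3

theorem coprime (h : S.Side a b T va vb t) (hb : S.Bent) (hL : S.Loc) :
    Cfsg.Agent.Lib.H1.CoprimeAction (Subgroup.zpowers t) (S.Qj a) where
  normalizes := by
    rw [Subgroup.zpowers_le]
    exact hL.Q_norm a h.ht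
  coprime := by
    rw [Nat.card_zpowers, h.ht3]
    obtain ⟨n, hn⟩ := IsPGroup.iff_card.1 hb.two
    have hdvd : Nat.card (S.Qj a) ∣ 2 ^ n := by
      rw [← hn, hL.cardQ a]; exact Dvd.intro_left 2 rfl
    exact Nat.Coprime.coprime_dvd_right hdvd (Nat.Coprime.pow_right n (by norm_num))
  solvable := Or.inl inferInstance

/-- `[Q_a, t] ≤ W_a` -/
theorem commQ_le_W (h : S.Side a b T va vb t) (hb : S.Bent) (hL : S.Loc) (hC : S.Con) (hM : S.Mod) :
    ⁅S.Qj a, Subgroup.zpowers t⁆ ≤ ⁅S.Vj a, Subgroup.zpowers t⁆ := by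
  have hle : ⁅S.Qj a, Subgroup.zpowers t⁆ ≤ S.Vj a := by
    rw [Subgroup.commutator_le]
    intro q hq x hx
    have hx' : x ∈ S.aker hL hC a := by
      have : Subgroup.zpowers t ≤ S.aker hL hC a := by
        rw [Subgroup.zpowers_le]; exact h.t_mem_aker hL hC hM
      exact this hx
    have := (S.Vj a).inv_mem (hx'.2 q hq)
    have e : (x * q * x⁻¹ * q⁻¹)⁻¹ = ⁅q, x⁆ := by
      rw [commutatorElement_def]; simp [mul_assoc]
    rwa [e] at this
  rw [← Cfsg.Agent.Lib.H1.coprime_commutator_commutator (h.coprime hb hL)]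
  exact Subgroup.commutator_mono hle le_rfl

/-- `Q_a = W_a K_a` -/
theorem Q_le_sup (h : S.Side a b T va vb t) (hb : S.Bent) (hL : S.Loc) (hC : S.Con) (hM : S.Mod) :
    S.Qj a ≤ ⁅S.Vj a, Subgroup.zpowers t⁆ ⊔
      (S.Qj a ⊓ Subgroup.centralizer ((Subgroup.zpowers t : Subgroup G) : Set G)) := by
  have := Cfsg.Agent.Lib.H1.coprime_commutator_sup_centralizer (h.coprime hb hL)
  calc S.Qj a = ⁅S.Qj a, Subgroup.zpowers t⁆ ⊔
        (S.Qj a ⊓ Subgroup.centralizer ((Subgroup.zpowers t : Subgroup G) : Set G)) := this.symm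
    _ ≤ _ := sup_le_sup_right (h.commQ_le_W hb hL hC hM) _

theorem W_le_V (h : S.Side a b T va vb t) (hC : S.Con) :
    ⁅S.Vj a, Subgroup.zpowers t⁆ ≤ S.Vj a := by
  rw [Subgroup.commutator_le]
  intro v hv x hx
  have hxP : x ∈ S.Pj a := by
    have : Subgroup.zpowers t ≤ S.Pj a := by rw [Subgroup.zpowers_le]; exact h.ht
    exact this hx
  have h1 := conj_mem_of_le_normalizer (hC.V_norm a) hxP ((S.Vj a).inv_mem hv)
  have := (S.Vj a).mul_mem hv h1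
  rw [commutatorElement_def]
  simpa [mul_assoc] using this

theorem K_inf_W (h : S.Side a b T va vb t) (hC : S.Con) (hM : S.Mod) {x : G}
    (hxK : x ∈ S.Qj a ⊓ Subgroup.centralizer ((Subgroup.zpowers t : Subgroup G) : Set G))
    (hxW : x ∈ ⁅S.Vj a, Subgroup.zpowers t⁆) : x = 1 := by
  have hxt : t * x = x * t := by
    have := (Subgroup.mem_inf.1 hxK).2
    rw [Subgroup.mem_centralizer_iff] at this
    exact this t (Subgroup.mem_zpowers t)
  have hY : x ∈ S.Yj a := hM.cV_three a t h.ht h.ht3 x (h.W_le_V hC hxW) hxt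
  have : x ∈ S.Yj a ⊓ ⁅S.Vj a, Subgroup.zpowers t⁆ := ⟨hY, hxW⟩
  rw [hM.W_disj a t h.ht h.ht3, Subgroup.mem_bot] at this
  exact this

theorem Q_le_normalizer_K (h : S.Side a b T va vb t) (hb : S.Bent) (hL : S.Loc) (hC : S.Con)
    (hM : S.Mod) : S.Qj a ≤ Subgroup.normalizer
      ((S.Qj a ⊓ Subgroup.centralizer ((Subgroup.zpowers t : Subgroup G) : Set G) : Subgroup G) : Set G) := by
  refine (h.Q_le_sup hb hL hC hM).trans (sup_le ?_ Subgroup.le_normalizer)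
  apply le_normalizer_of_conj_mem
  intro w hw k hk
  have hwk : w * k = k * w := hC.V_comm_Q a w (h.W_le_V hC hw) k hk.1
  have : w * k * w⁻¹ = k := by rw [hwk]; simp
  rw [this]; exact hk

theorem card_T (h : S.Side a b T va vb t) (hL : S.Loc) : Nat.card T = 2 * Nat.card (S.Qj a) := by
  rw [h.hTa.2]; exact hL.cardQ a

theorem card_T' (h : S.Side a b T va vb t) (hL : S.Loc) : Nat.card T = 2 * Nat.card (S.Qj b) := by
  rw [h.hTb.2]; exact hL.cardQ b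

/-- `x0 = [v_a, v_b]` -/
theorem x0_facts (h : S.Side a b T va vb t) (hC : S.Con) (hM : S.Mod) :
    va * vb * va⁻¹ * vb⁻¹ ≠ 1 ∧ va * vb * va⁻¹ * vb⁻¹ ∈ ⁅S.Vj b, T⁆ ∧
      va * vb * va⁻¹ * vb⁻¹ ∈ ⁅S.Vj a, Subgroup.zpowers t⁆ := by
  refine ⟨?_, ?_, ?_⟩
  · intro h1
    apply h.hne
    have : va * vb * va⁻¹ * vb⁻¹ * vb * va = vb * va := by rw [h1, one_mul]
    simpa [mul_assoc] using this
  · rw [Subgroup.commutator_comm]
    have := Subgroup.commutator_mem_commutator (h.vaT hC) h.hvb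
    rwa [commutatorElement_def] at this
  · apply hM.comm_le_W a T h.hTa t h.ht h.ht3
    have := Subgroup.commutator_mem_commutator h.hva (h.vbT hC)
    rwa [commutatorElement_def] at this

/-- (8c): `v_b` centralizes `K_a = C_(Q_a)(t)` -/
theorem vb_comm_K (h : S.Side a b T va vb t) (hb : S.Bent) (hL : S.Loc) (hC : S.Con) (hM : S.Mod)
    {k : G} (hk : k ∈ S.Qj a ⊓ Subgroup.centralizer ((Subgroup.zpowers t : Subgroup G) : Set G)) :
    vb * k = k * vb := by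
  obtain ⟨hx01, hx0b, hx0W⟩ := h.x0_facts hC hM
  set x : G := vb * k * vb⁻¹ * k⁻¹ with hx
  set q0 : G := vb * t * vb⁻¹ * t with hq0
  have hxb : x ∈ ⁅S.Vj b, T⁆ := by
    have := Subgroup.commutator_mem_commutator h.hvb (h.hQa hk.1)
    rwa [commutatorElement_def] at this
  have hcard : Nat.card ↥⁅S.Vj b, T⁆ = 2 := by rw [hM.card_comm b T h.hTb]; exact h.hc2
  have hxW : x ∈ ⁅S.Vj a, Subgroup.zpowers t⁆ := by
    rcases card_two_dichotomy hcard hx0b hx01 x hxb with h1 | h1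
    · rw [h1]; exact one_mem _
    · rw [h1]; exact hx0W
  have hkt : k * t = t * k := by
    have := (Subgroup.mem_inf.1 hk).2
    rw [Subgroup.mem_centralizer_iff] at this
    exact (this t (Subgroup.mem_zpowers t)).symm
  have hq0Q : q0 ∈ S.Qj a := h.hct
  set x' : G := t⁻¹ * x * t with hx'
  have hx'W : x' ∈ ⁅S.Vj a, Subgroup.zpowers t⁆ := by
    have := conj_mem_of_le_normalizer (hM.W_norm a t h.ht h.ht3) (inv_mem h.ht) hxW
    simpa [hx'] using this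
  have e1 : vb * k * vb⁻¹ = x * k := by rw [hx]; group
  have e2 : vb * t * vb⁻¹ = q0 * t⁻¹ := by rw [hq0]; group
  have e3 : (vb * k * vb⁻¹) * (vb * t * vb⁻¹) = (vb * t * vb⁻¹) * (vb * k * vb⁻¹) := by
    have h1 : vb * k * vb⁻¹ * (vb * t * vb⁻¹) = vb * (k * t) * vb⁻¹ := by group
    have h2 : vb * t * vb⁻¹ * (vb * k * vb⁻¹) = vb * (t * k) * vb⁻¹ := by group
    rw [h1, h2, hkt]
  rw [e1, e2] at e3
  have e4 : x * k * q0 = q0 * x' * k := by
    calc x * k * q0 = x * k * (q0 * t⁻¹) * t := by group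
      _ = q0 * t⁻¹ * (x * k) * t := by rw [e3]
      _ = q0 * (t⁻¹ * x * t) * t⁻¹ * (k * t) := by group
      _ = q0 * (t⁻¹ * x * t) * t⁻¹ * (t * k) := by rw [hkt]
      _ = q0 * x' * k := by rw [hx']; group
  have hx'q0 : x' * q0 = q0 * x' := hC.V_comm_Q a x' (h.W_le_V hC hx'W) q0 hq0Q
  have e5 : x'⁻¹ * x = q0 * k * q0⁻¹ * k⁻¹ := by
    have h1 : x * (k * q0) = x' * (q0 * k) := by
      calc x * (k * q0) = x * k * q0 := by group
        _ = q0 * x' * k := e4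
        _ = x' * q0 * k := by rw [hx'q0]
        _ = x' * (q0 * k) := by group
    calc x'⁻¹ * x = x'⁻¹ * (x * (k * q0)) * (k * q0)⁻¹ := by group
      _ = x'⁻¹ * (x' * (q0 * k)) * (k * q0)⁻¹ := by rw [h1]
      _ = q0 * k * q0⁻¹ * k⁻¹ := by group
  have hK : q0 * k * q0⁻¹ * k⁻¹ ∈
      S.Qj a ⊓ Subgroup.centralizer ((Subgroup.zpowers t : Subgroup G) : Set G) :=
    mul_mem (conj_mem_of_le_normalizer (h.Q_le_normalizer_K hb hL hC hM) hq0Q hk) (inv_mem hk)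
  have hW : x'⁻¹ * x ∈ ⁅S.Vj a, Subgroup.zpowers t⁆ := mul_mem (inv_mem hx'W) hxW
  have e6 : x'⁻¹ * x = 1 := h.K_inf_W hC hM (by rw [e5]; exact hK) hW
  have e7 : t * x = x * t := by
    have h1 : x = x' := by
      have := congrArg (x' * ·) e6
      simpa using this
    have h2 : t * x' = x * t := by rw [hx']; group
    rw [← h1] at h2
    exact h2
  have hxY : x ∈ S.Yj a := hM.cV_three a t h.ht h.ht3 x (h.W_le_V hC hxW) e7
  have hx1 : x = 1 := by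
    have : x ∈ S.Yj a ⊓ ⁅S.Vj a, Subgroup.zpowers t⁆ := ⟨hxY, hxW⟩
    rw [hM.W_disj a t h.ht h.ht3, Subgroup.mem_bot] at this
    exact this
  have : vb * k * vb⁻¹ * k⁻¹ * k * vb = k * vb := by
    rw [← hx, hx1, one_mul]
  simpa [mul_assoc] using this

/-- `V_b ∩ Q_a ≤ Z(T) ∩ ... ≤ V_a` commutes with `Q_a` -/
theorem Vb_inf_Qa_comm (h : S.Side a b T va vb t) (hL : S.Loc) (hC : S.Con) {v : G}
    (hv : v ∈ S.Vj b) (hvQ : v ∈ S.Qj a) : ∀ q ∈ S.Qj a, v * q = q * v := by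
  have hvT : v ∈ T := h.hQa hvQ
  have hvva : v * va = va * v := (hC.V_comm_Q a va h.hva v hvQ).symm
  have hz : v ∈ zOf T := by
    refine ⟨hvT, hC.V_sq b v hv, fun y hy => ?_⟩
    by_cases hyQ : y ∈ S.Qj b
    · exact (hC.V_comm_Q b v hv y hyQ).symm
    · have hyva : y * va ∈ S.Qj b :=
        index_two_mul h.hQb (h.card_T' hL) hy (h.vaT hC) hyQ (h.va_not_mem hC)
      have h1 : v * (y * va) = (y * va) * v := hC.V_comm_Q b v hv _ hyva
      have h2 : y = (y * va) * va⁻¹ := by group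
      have h3 : v * va⁻¹ = va⁻¹ * v := by
        have : va⁻¹ * (v * va) * va⁻¹ = va⁻¹ * (va * v) * va⁻¹ := by rw [hvva]
        simpa [mul_assoc] using this.symm
      calc y * v = (y * va) * va⁻¹ * v := by rw [← h2]
        _ = (y * va) * (va⁻¹ * v) := by group
        _ = (y * va) * (v * va⁻¹) := by rw [h3]
        _ = ((y * va) * v) * va⁻¹ := by group
        _ = (v * (y * va)) * va⁻¹ := by rw [h1]
        _ = v * ((y * va) * va⁻¹) := by group
        _ = v * y := by rw [← h2]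
  have hvV : v ∈ S.Vj a := hC.Z_le_V a T h.hTa hz
  exact fun q hq => hC.V_comm_Q a v hvV q hq

/-- (8c): `K_a ≤ Q_b` -/
theorem K_le_Qb (h : S.Side a b T va vb t) (hb : S.Bent) (hL : S.Loc) (hC : S.Con) (hM : S.Mod) :
    S.Qj a ⊓ Subgroup.centralizer ((Subgroup.zpowers t : Subgroup G) : Set G) ≤ S.Qj b := by
  intro k hk
  have hkQ : k ∈ S.Qj a := (Subgroup.mem_inf.1 hk).1
  apply hC.cV b k (h.hTb.1 (h.hQa hkQ))
  intro v hv
  have hvT : v ∈ T := h.hQb (hC.V_le_Q b hv)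
  by_cases hvQ : v ∈ S.Qj a
  · exact (h.Vb_inf_Qa_comm hL hC hv hvQ k hkQ).symm
  · have hvvb : v * vb ∈ S.Qj a :=
      index_two_mul h.hQa (h.card_T hL) hvT (h.vbT hC) hvQ (h.vb_not_mem hC)
    have h1 : (v * vb) * k = k * (v * vb) :=
      h.Vb_inf_Qa_comm hL hC (mul_mem hv h.hvb) hvvb k hkQ
    have h2 : vb * k = k * vb := h.vb_comm_K hb hL hC hM hk
    have h3 : vb⁻¹ * k = k * vb⁻¹ := by
      have : vb⁻¹ * (vb * k) * vb⁻¹ = vb⁻¹ * (k * vb) * vb⁻¹ := by rw [h2]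
      simpa [mul_assoc] using this.symm
    calc k * v = k * ((v * vb) * vb⁻¹) := by group
      _ = (k * (v * vb)) * vb⁻¹ := by group
      _ = ((v * vb) * k) * vb⁻¹ := by rw [h1]
      _ = (v * vb) * (k * vb⁻¹) := by group
      _ = (v * vb) * (vb⁻¹ * k) := by rw [h3]
      _ = v * k := by group

end Side

omit [Finite G] in
theorem mem_sup_comm {A B : Subgroup G} (hAB : ∀ a ∈ A, ∀ b ∈ B, a * b = b * a) {x : G}
    (hx : x ∈ A ⊔ B) : ∃ a ∈ A, ∃ b ∈ B, x = a * b := by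
  rw [Subgroup.sup_eq_closure] at hx
  induction hx using Subgroup.closure_induction with
  | mem x hx =>
    rcases hx with hx | hx
    · exact ⟨x, hx, 1, one_mem _, by simp⟩
    · exact ⟨1, one_mem _, x, hx, by simp⟩
  | one => exact ⟨1, one_mem _, 1, one_mem _, by simp⟩
  | mul x y _ _ hx hy =>
    obtain ⟨a, ha, b, hb, rfl⟩ := hx
    obtain ⟨a', ha', b', hb', rfl⟩ := hy
    refine ⟨a * a', mul_mem ha ha', b * b', mul_mem hb hb', ?_⟩
    have := hAB a' ha' b hb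
    calc a * b * (a' * b') = a * (b * a') * b' := by group
      _ = a * (a' * b) * b' := by rw [this]
      _ = a * a' * (b * b') := by group
  | inv x _ hx =>
    obtain ⟨a, ha, b, hb, rfl⟩ := hx
    refine ⟨a⁻¹, inv_mem ha, b⁻¹, inv_mem hb, ?_⟩
    have := hAB a ha b hb
    have h2 : a⁻¹ * b⁻¹ = (b * a)⁻¹ := by group
    rw [h2, ← this]

omit [Finite G] in
theorem conj_mem_closure {P : Subgroup G} {s : Set G} (hs : ∀ p ∈ P, ∀ x ∈ s, p * x * p⁻¹ ∈ s) :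
    ∀ p ∈ P, ∀ x ∈ Subgroup.closure s, p * x * p⁻¹ ∈ Subgroup.closure s := by
  intro p hp x hx
  induction hx using Subgroup.closure_induction with
  | mem x hx => exact Subgroup.subset_closure (hs p hp x hx)
  | one => simp
  | mul x y _ _ hx hy =>
    have := mul_mem hx hy
    have e : p * x * p⁻¹ * (p * y * p⁻¹) = p * (x * y) * p⁻¹ := by group
    rwa [e] at this
  | inv x _ hx =>
    have := inv_mem hx
    have e : (p * x * p⁻¹)⁻¹ = p * x⁻¹ * p⁻¹ := by group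
    rwa [e] at this

namespace Side

variable {S} {a b : ℤ} {T : Subgroup G} {va vb t : G}

/-- squares of `Q_a` are squares of `K_a` -/
theorem sq_Q (h : S.Side a b T va vb t) (hb : S.Bent) (hL : S.Loc) (hC : S.Con) (hM : S.Mod)
    {q : G} (hq : q ∈ S.Qj a) :
    ∃ k ∈ S.Qj a ⊓ Subgroup.centralizer ((Subgroup.zpowers t : Subgroup G) : Set G), q ^ 2 = k ^ 2 := by
  have hcomm : ∀ w ∈ ⁅S.Vj a, Subgroup.zpowers t⁆,
      ∀ k ∈ S.Qj a ⊓ Subgroup.centralizer ((Subgroup.zpowers t : Subgroup G) : Set G), w * k = k * w :=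
    fun w hw k hk => hC.V_comm_Q a w (h.W_le_V hC hw) k (Subgroup.mem_inf.1 hk).1
  obtain ⟨w, hw, k, hk, rfl⟩ := mem_sup_comm hcomm (h.Q_le_sup hb hL hC hM hq)
  refine ⟨k, hk, ?_⟩
  have hw2 : w ^ 2 = 1 := hC.V_sq a w (h.W_le_V hC hw)
  have hwk := hcomm w hw k hk
  calc (w * k) ^ 2 = w * (k * w) * k := by rw [pow_two]; group
    _ = w * (w * k) * k := by rw [hwk]
    _ = w ^ 2 * k ^ 2 := by rw [pow_two, pow_two]; group
    _ = k ^ 2 := by rw [hw2, one_mul]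

end Side

/-- (8a): `|[V_0, T_0]| = 2` -/
theorem card_comm_eq_two (hL : S.Loc) (hC : S.Con) (hM : S.Mod) {va vb : G}
    (hva : va ∈ S.Vj 0) (hvb : vb ∈ S.Vj 1) (hne : va * vb ≠ vb * va) :
    Nat.card ↥⁅S.Vj 0, S.Tj 0⁆ = 2 := by
  have hQ1T : S.Qj 1 ≤ S.Tj 0 := by
    have := S.Qj_le_left 1
    rwa [sub_self] at this
  have hvbT : vb ∈ S.Tj 0 := hQ1T (hC.V_le_Q 1 hvb)
  have hvaT : va ∈ S.Tj 0 := S.Qj_le_right 0 (hC.V_le_Q 0 hva)
  have hvbQ : vb ∉ S.Qj 0 := fun hq => hne (hC.V_comm_Q 0 va hva vb hq)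
  have hvaQ : va ∉ S.Qj 1 := fun hq => hne (hC.V_comm_Q 1 vb hvb va hq).symm
  have hcard1 : Nat.card (S.Tj 0) = 2 * Nat.card (S.Qj 1) := hL.cardQ 1
  have hTne : S.Tj 0 ≠ S.Tj (-1) := by
    have := hL.bent 0
    rw [zero_sub] at this
    exact this.symm
  set x0 : G := va * vb * va⁻¹ * vb⁻¹ with hx0
  have hx0R : x0 ∈ ⁅S.Vj 0, S.Tj 0⁆ := by
    have := Subgroup.commutator_mem_commutator hva hvbT
    rwa [commutatorElement_def] at this
  have hx01 : x0 ≠ 1 := by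
    intro h1
    apply hne
    have : va * vb * va⁻¹ * vb⁻¹ * vb * va = vb * va := by rw [← hx0, h1, one_mul]
    simpa [mul_assoc] using this
  have hva2 : va⁻¹ = va := by
    have := hC.V_sq 0 va hva
    rw [pow_two] at this
    exact inv_eq_of_mul_eq_one_left this
  have hdich : ∀ x ∈ ⁅S.Vj 0, S.Tj 0⁆, x = 1 ∨ x = x0 := by
    intro x hx
    obtain ⟨z, hz, rfl⟩ := hM.comm_eq 0 (S.Tj 0) (S.Tj (-1)) (S.isSyl_Tj 0)
      (S.isSylR (-1) 0 (by norm_num)) hTne vb hvbT hvbQ x hx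
    have hzV : z ∈ S.Vj 0 := hC.Z_le_V 0 (S.Tj (-1)) (S.isSylR (-1) 0 (by norm_num)) hz
    have hzT : z ∈ S.Tj 0 := S.Qj_le_right 0 (hC.V_le_Q 0 hzV)
    by_cases hzQ : z ∈ S.Qj 1
    · left
      have := hC.V_comm_Q 1 vb hvb z hzQ
      calc z * vb * z⁻¹ * vb⁻¹ = (z * vb) * z⁻¹ * vb⁻¹ := by group
        _ = (vb * z) * z⁻¹ * vb⁻¹ := by rw [this]
        _ = 1 := by group
    · right
      have hk : z * va ∈ S.Qj 1 := index_two_mul hQ1T hcard1 hzT hvaT hzQ hvaQ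
      have hkV : z * va ∈ S.Vj 0 := mul_mem hzV hva
      have hkvb : vb * (z * va) = (z * va) * vb := hC.V_comm_Q 1 vb hvb _ hk
      have hkva : (z * va) * va = va * (z * va) :=
        hC.V_comm_Q 0 _ hkV va (hC.V_le_Q 0 hva)
      have hz' : z = (z * va) * va := by
        rw [mul_assoc, ← pow_two, hC.V_sq 0 va hva, mul_one]
      have hzinv : z⁻¹ = va * (z * va)⁻¹ := by
        have : z⁻¹ = ((z * va) * va)⁻¹ := by rw [← hz']
        rw [this, mul_inv_rev, hva2]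
      set k : G := z * va with hkdef
      have hkvb' : k⁻¹ * vb⁻¹ = vb⁻¹ * k⁻¹ := by
        have : (vb * k)⁻¹ = (k * vb)⁻¹ := by rw [hkvb]
        simpa [mul_inv_rev] using this
      calc z * vb * z⁻¹ * vb⁻¹ = (k * va) * vb * (va * k⁻¹) * vb⁻¹ := by rw [hzinv, ← hz']
        _ = (va * k) * vb * va * (k⁻¹ * vb⁻¹) := by rw [hkva]; group
        _ = (va * k) * vb * va * (vb⁻¹ * k⁻¹) := by rw [hkvb']
        _ = va * (k * vb) * va * vb⁻¹ * k⁻¹ := by group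
        _ = va * (vb * k) * va * vb⁻¹ * k⁻¹ := by rw [hkvb]
        _ = va * vb * (k * va) * vb⁻¹ * k⁻¹ := by group
        _ = va * vb * (va * k) * vb⁻¹ * k⁻¹ := by rw [hkva]
        _ = va * vb * va * (k * vb⁻¹) * k⁻¹ := by group
        _ = va * vb * va * (vb⁻¹ * k) * k⁻¹ := by
            have : k * vb⁻¹ = vb⁻¹ * k := by
              have h1 : vb⁻¹ * (vb * k) * vb⁻¹ = vb⁻¹ * (k * vb) * vb⁻¹ := by rw [hkvb]
              simpa [mul_assoc] using h1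
            rw [this]
        _ = va * vb * va * vb⁻¹ := by group
        _ = x0 := by rw [hx0]; nth_rewrite 2 [← hva2]; rfl
  rw [Nat.card_eq_two_iff' (1 : ↥⁅S.Vj 0, S.Tj 0⁆)]
  refine ⟨⟨x0, hx0R⟩, fun h => hx01 (congrArg Subtype.val h), fun y hy => ?_⟩
  rcases hdich y.1 y.2 with h | h
  · exact absurd (Subtype.ext h) hy
  · exact Subtype.ext h

/-- (L2A) modulo the `S_3`-relation `s t s⁻¹ t ∈ Q_j` -/
theorem l2a_of_ct (S : Setup G) (hb : S.Bent) (hL : S.Loc) (hC : S.Con) (hM : S.Mod) (hl : S.Ell 2)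
    (hct : ∀ (j : ℤ) (X : Subgroup G), S.IsSyl j X → ∀ s ∈ X, s ∉ S.Qj j → ∀ t ∈ S.Pj j,
      orderOf t = 3 → s * t * s⁻¹ * t ∈ S.Qj j) : S.L2 := by
  -- non-commuting elements of V_0 and V_1
  have hnc := hl.nc (-1)
  have e : (-1 : ℤ) + ((2 : ℕ) : ℤ) = 1 := by norm_num
  rw [e] at hnc
  unfold Comm at hnc
  push Not at hnc
  obtain ⟨va, hvaZ, vb, hvbZ, hne⟩ := hnc
  have hva : va ∈ S.Vj 0 := hC.Z_le_V 0 (S.Tj (-1)) (S.isSylR (-1) 0 (by norm_num)) hvaZ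
  have hvb : vb ∈ S.Vj 1 := hC.Z_le_V 1 (S.Tj 1) (S.isSyl_Tj 1) hvbZ
  have hc2 := S.card_comm_eq_two hL hC hM hva hvb hne
  have hQ1T : S.Qj 1 ≤ S.Tj 0 := by
    have := S.Qj_le_left 1
    rwa [sub_self] at this
  have hTa : S.IsSyl 0 (S.Tj 0) := S.isSyl_Tj 0
  have hTb : S.IsSyl 1 (S.Tj 0) := S.isSylR 0 1 (by norm_num)
  have hvbT : vb ∈ S.Tj 0 := hQ1T (hC.V_le_Q 1 hvb)
  have hvaT : va ∈ S.Tj 0 := S.Qj_le_right 0 (hC.V_le_Q 0 hva)
  have hvbQ : vb ∉ S.Qj 0 := fun hq => hne (hC.V_comm_Q 0 va hva vb hq)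
  have hvaQ : va ∉ S.Qj 1 := fun hq => hne (hC.V_comm_Q 1 vb hvb va hq).symm
  obtain ⟨t0, ht0, ht03⟩ := hL.exists_three 0
  obtain ⟨t1, ht1, ht13⟩ := hL.exists_three 1
  have side0 : S.Side 0 1 (S.Tj 0) va vb t0 :=
    ⟨hTa, hTb, S.Qj_le_right 0, hQ1T, hva, hvb, hne, ht0, ht03,
      hct 0 (S.Tj 0) hTa vb hvbT hvbQ t0 ht0 ht03, hc2⟩
  have side1 : S.Side 1 0 (S.Tj 0) vb va t1 :=
    ⟨hTb, hTa, hQ1T, S.Qj_le_right 0, hvb, hva, fun h => hne h.symm, ht1, ht13,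
      hct 1 (S.Tj 0) hTb va hvaT hvaQ t1 ht1 ht13, hc2⟩
  set K0 : Subgroup G := S.Qj 0 ⊓ Subgroup.centralizer ((Subgroup.zpowers t0 : Subgroup G) : Set G) with hK0
  set K1 : Subgroup G := S.Qj 1 ⊓ Subgroup.centralizer ((Subgroup.zpowers t1 : Subgroup G) : Set G) with hK1
  set W0 : Subgroup G := ⁅S.Vj 0, Subgroup.zpowers t0⁆ with hW0
  have hK0Q1 : K0 ≤ S.Qj 1 := side0.K_le_Qb hb hL hC hM
  have hK1Q0 : K1 ≤ S.Qj 0 := side1.K_le_Qb hb hL hC hM
  -- the squares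
  let Sq : Set G := {x | ∃ k ∈ K0, x = k ^ 2}
  have hSq0 : ∀ q ∈ S.Qj 0, q ^ 2 ∈ Sq := by
    intro q hq
    obtain ⟨k, hk, hqk⟩ := side0.sq_Q hb hL hC hM hq
    exact ⟨k, hk, hqk⟩
  have hSq1 : ∀ q ∈ S.Qj 1, q ^ 2 ∈ Sq := by
    intro q hq
    obtain ⟨k, hk, hqk⟩ := side1.sq_Q hb hL hC hM hq
    rw [hqk]
    exact hSq0 k (hK1Q0 hk)
  set F : Subgroup G := Subgroup.closure Sq with hF
  have hconj : ∀ (p q : G), p * q ^ 2 * p⁻¹ = (p * q * p⁻¹) ^ 2 := by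
    intro p q; rw [pow_two, pow_two]; group
  have hFP0 : F ≤ S.Pj 0 := by
    rw [hF, Subgroup.closure_le]
    rintro x ⟨k, hk, rfl⟩
    exact pow_mem (S.Qj_le 0 (Subgroup.mem_inf.1 hk).1) 2
  have hN0 : S.Pj 0 ≤ Subgroup.normalizer (F : Set G) := by
    apply le_normalizer_of_conj_mem
    apply conj_mem_closure
    rintro p hp x ⟨k, hk, rfl⟩
    rw [hconj]
    exact hSq0 _ (conj_mem_of_le_normalizer (hL.Q_norm 0) hp (Subgroup.mem_inf.1 hk).1)
  have hN1 : S.Pj 1 ≤ Subgroup.normalizer (F : Set G) := by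
    apply le_normalizer_of_conj_mem
    apply conj_mem_closure
    rintro p hp x ⟨k, hk, rfl⟩
    rw [hconj]
    exact hSq1 _ (conj_mem_of_le_normalizer (hL.Q_norm 1) hp (hK0Q1 hk))
  have hP01 : S.Pj 0 ≠ S.Pj 1 := by
    have := hL.P_ne 0
    rwa [zero_add] at this
  have hFbot : F = ⊥ := S.no_common_normal_Pj 0 1 F hFP0 hN0 hN1 hP01
  have hKsq : ∀ k ∈ K0, k ^ 2 = 1 := by
    intro k hk
    have : k ^ 2 ∈ F := Subgroup.subset_closure ⟨k, hk, rfl⟩
    rw [hFbot, Subgroup.mem_bot] at this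
    exact this
  have hKcomm : ∀ k ∈ K0, ∀ k' ∈ K0, k * k' = k' * k := by
    intro k hk k' hk'
    have h1 := hKsq k hk
    have h2 := hKsq k' hk'
    have h3 := hKsq (k * k') (mul_mem hk hk')
    rw [pow_two] at h1 h2 h3
    have hki : k⁻¹ = k := inv_eq_of_mul_eq_one_left h1
    have hki' : k'⁻¹ = k' := inv_eq_of_mul_eq_one_left h2
    have h4 : (k * k')⁻¹ = k * k' := inv_eq_of_mul_eq_one_left h3
    rw [mul_inv_rev, hki, hki'] at h4
    exact h4.symm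
  have hW0V : W0 ≤ S.Vj 0 := side0.W_le_V hC
  have hQ0sup : S.Qj 0 ≤ W0 ⊔ K0 := side0.Q_le_sup hb hL hC hM
  -- K0 is central in P_0
  have hKY : K0 ≤ S.Yj 0 := by
    intro k hk
    have hkQ : k ∈ S.Qj 0 := (Subgroup.mem_inf.1 hk).1
    refine ⟨S.Qj_le 0 hkQ, hKsq k hk, ?_⟩
    have hQc : S.Qj 0 ≤ Subgroup.centralizer ({k} : Set G) := by
      refine hQ0sup.trans (sup_le ?_ ?_)
      · intro w hw
        rw [Subgroup.mem_centralizer_iff]
        intro c hc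
        rw [Set.mem_singleton_iff] at hc
        rw [hc]
        exact (hC.V_comm_Q 0 w (hW0V hw) k hkQ).symm
      · intro k' hk'
        rw [Subgroup.mem_centralizer_iff]
        intro c hc
        rw [Set.mem_singleton_iff] at hc
        rw [hc]
        exact hKcomm k hk k' hk'
    have hTc : S.Tj 0 ≤ Subgroup.centralizer ({k} : Set G) := by
      intro y hy
      by_cases hyQ : y ∈ S.Qj 0
      · exact hQc hyQ
      · have h1 : y * vb ∈ S.Qj 0 :=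
          index_two_mul (S.Qj_le_right 0) (hL.cardQ 0) hy hvbT hyQ hvbQ
        have h2 : vb ∈ Subgroup.centralizer ({k} : Set G) := by
          rw [Subgroup.mem_centralizer_iff]
          intro c hc
          rw [Set.mem_singleton_iff] at hc
          rw [hc]
          exact (side0.vb_comm_K hb hL hC hM hk).symm
        have h3 := mul_mem (hQc h1) (inv_mem h2)
        simpa [mul_assoc] using h3
    have htc : Subgroup.zpowers t0 ≤ Subgroup.centralizer ({k} : Set G) := by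
      rw [Subgroup.zpowers_le, Subgroup.mem_centralizer_iff]
      intro c hc
      rw [Set.mem_singleton_iff] at hc
      rw [hc]
      have := (Subgroup.mem_inf.1 hk).2
      rw [Subgroup.mem_centralizer_iff] at this
      exact (this t0 (Subgroup.mem_zpowers t0)).symm
    have hPc : S.Pj 0 ≤ Subgroup.centralizer ({k} : Set G) := by
      rw [← hL.sup_three 0 (S.Tj 0) hTa t0 ht0 ht03]
      exact sup_le hTc htc
    intro y hy
    have := hPc hy
    rw [Subgroup.mem_centralizer_iff] at this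
    exact (this k rfl).symm
  have hYV : S.Yj 0 ≤ S.Vj 0 := (hC.Y_le_Z 0 (S.Tj 0) hTa).trans (hC.Z_le_V 0 (S.Tj 0) hTa)
  refine ⟨le_antisymm (hQ0sup.trans (sup_le hW0V (hKY.trans hYV))) (hC.V_le_Q 0), ?_⟩
  refine ⟨W0, hW0V, hM.W_norm 0 t0 ht0 ht03, ?_, hM.W_sup 0 t0 ht0 ht03, hM.W_disj 0 t0 ht0 ht03, ?_,
    vb, hTa.1 hvbT, hC.V_sq 1 vb hvb, hvbQ⟩
  · rw [hM.W_card 0 t0 ht0 ht03, hc2]; norm_num
  · have := hM.card_Y_le
    rwa [hc2] at this

/-- (L2A): (8a)-(8d) of the blueprint -/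
theorem l2a (S : Setup G) (hb : S.Bent) (hL : S.Loc) (hC : S.Con) (hM : S.Mod) (hl : S.Ell 2) : S.L2 :=
  S.l2a_of_ct hb hL hC hM hl (Cfsg.Agent.Lib.H10.Sims.loc_extra S hb).2.2.2

end Setup

end Cfsg.Agent.Lib.H5.Sims
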